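import Mathlib

/-!
# Schwartz-Zippel for finite groups generated by one-parameter groups (helper110, S5715 (SZ))

`sz` : `G` a finite group generated by one-parameter groups `x i : F → G`, `F` a finite subfield of `K` with `q`
elements; `P` a space of functions `G → K`, invariant under the right translations by the `x i t`, such that
`t ↦ f (g * x i t)` is a polynomial of degree `≤ D` in `t` for `f ∈ P`. Then `q * #{g | f g = 0} ≤ D * dim P * |G|` for
`0 ≠ f ∈ P`.
-/

set_option autoImplicit false
set_option linter.unusedSectionVars false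

namespace Cfsg.Agent.H110.BR

section Sz

variable {G K ι : Type*} [Group G] [Finite G] [Field K] (F : Subfield K) [Finite F]

/-- the common zeros -/
def Zer (U : Submodule K (G → K)) : Set G := {g | ∀ f ∈ U, f g = 0}

/-- a nonzero polynomial of degree `≤ D` has at most `D` roots -/
theorem card_roots_le {D : ℕ} {p : Polynomial K} (hp : p ≠ 0) (hdeg : p.natDegree ≤ D) :
    {t : F | p.eval (t : K) = 0}.ncard ≤ D := by
  classical
  have h1 : (Subtype.val) '' {t : F | p.eval (t : K) = 0} ⊆ (p.roots.toFinset : Set K) := by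
    rintro _ ⟨t, ht, rfl⟩
    rw [Finset.mem_coe, Multiset.mem_toFinset, Polynomial.mem_roots hp]
    exact ht
  calc {t : F | p.eval (t : K) = 0}.ncard
      = ((Subtype.val) '' {t : F | p.eval (t : K) = 0}).ncard :=
        (Set.ncard_image_of_injective _ Subtype.val_injective).symm
    _ ≤ (p.roots.toFinset : Set K).ncard := Set.ncard_le_ncard h1 (Finset.finite_toSet _)
    _ = p.roots.toFinset.card := Set.ncard_coe_finset _
    _ ≤ p.roots.card := Multiset.toFinset_card_le _
    _ ≤ p.natDegree := p.card_roots'
    _ ≤ D := hdeg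

/-- the double counting -/
theorem card_bad {u : F → G} (hu : ∀ s t, u (s + t) = u s * u t) {D : ℕ} {f : G → K}
    (hfc : ∀ g, ∃ p : Polynomial K, p.natDegree ≤ D ∧ ∀ t : F, f (g * u t) = p.eval (t : K)) {B : Set G}
    (hB : ∀ g ∈ B, f g = 0 ∧ ∃ t, f (g * u t) ≠ 0) : Nat.card F * B.ncard ≤ D * Nat.card G := by
  classical
  have := Fintype.ofFinite G
  have := Fintype.ofFinite F
  let s : Finset (F × G) := Finset.univ ×ˢ B.toFinite.toFinset
  have h1 : s.card = Nat.card F * B.ncard := by
    rw [Finset.card_product, Finset.card_univ, Set.ncard_eq_toFinset_card B, Nat.card_eq_fintype_card]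
  have h2 : s.card ≤ D * (Finset.univ : Finset G).card := by
    refine Finset.card_le_mul_card_image_of_maps_to (f := fun x : F × G => x.2 * u x.1)
      (fun _ _ => Finset.mem_univ _) D fun h _ => ?_
    by_cases hne : ((s.filter fun x => x.2 * u x.1 = h)).Nonempty
    · obtain ⟨⟨t₀, g₀⟩, h3⟩ := hne
      rw [Finset.mem_filter, Finset.mem_product, Set.Finite.mem_toFinset] at h3
      obtain ⟨⟨-, h4⟩, h5⟩ := h3
      have h5' : g₀ * u t₀ = h := h5
      obtain ⟨-, t₁, hk⟩ := hB g₀ h4
      obtain ⟨p, hpd, hp⟩ := hfc g₀
      have hp0 : p ≠ 0 := by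
        rintro rfl
        rw [hp, Polynomial.eval_zero] at hk
        exact hk rfl
      refine le_trans ?_ (card_roots_le F hp0 hpd)
      rw [← Set.ncard_coe_finset]
      refine Set.ncard_le_ncard_of_injOn (fun x => t₀ - x.1) ?_ ?_ (Set.toFinite _)
      · rintro ⟨t, g⟩ hx
        rw [Finset.mem_coe, Finset.mem_filter, Finset.mem_product, Set.Finite.mem_toFinset] at hx
        obtain ⟨⟨-, hg⟩, e⟩ := hx
        have e' : g * u t = h := e
        show p.eval ((t₀ - t : F) : K) = 0
        rw [← hp]
        have h7 : g₀ * u (t₀ - t) = g := by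
          have h8 : u t₀ = u (t₀ - t) * u t := by rw [← hu, sub_add_cancel]
          rw [← e', h8, ← mul_assoc] at h5'
          exact mul_right_cancel h5'
        rw [h7]
        exact (hB g hg).1
      · rintro ⟨t, g⟩ hx ⟨t', g'⟩ hx' e
        rw [Finset.mem_coe, Finset.mem_filter] at hx hx'
        have e1 : t = t' := sub_right_injective e
        have e2 : g * u t = g' * u t' := hx.2.trans hx'.2.symm
        rw [e1] at e2
        rw [Prod.mk.injEq]
        exact ⟨e1, mul_right_cancel e2⟩
    · rw [Finset.not_nonempty_iff_eq_empty] at hne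
      rw [hne]
      simp
  rw [h1, Finset.card_univ, ← Nat.card_eq_fintype_card (α := G)] at h2
  exact h2

theorem sz_aux {x : ι → F → G} (hx : ∀ i s t, x i (s + t) = x i s * x i t)
    (hgen : Subgroup.closure {g | ∃ i t, g = x i t} = ⊤) {P : Submodule K (G → K)}
    (hP : ∀ f ∈ P, ∀ i t, (fun g => f (g * x i t)) ∈ P) {D : ℕ}
    (hpoly : ∀ f ∈ P, ∀ g i, ∃ p : Polynomial K, p.natDegree ≤ D ∧ ∀ t : F, f (g * x i t) = p.eval (t : K)) (n : ℕ) :
    ∀ U : Submodule K (G → K), U ≤ P → U ≠ ⊥ → Module.finrank K P - Module.finrank K U = n →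
      Nat.card F * (Zer U).ncard ≤ n * (D * Nat.card G) := by
  classical
  induction n using Nat.strong_induction_on with
  | _ n ih =>
  intro U hUP hU0 hn
  by_cases hinv : ∀ f ∈ U, ∀ i t, (fun g => f (g * x i t)) ∈ U
  · -- `U` is invariant
    have h1 : ∀ h : G, ∀ f ∈ U, (fun g => f (g * h)) ∈ U := by
      intro h
      have hh : h ∈ Subgroup.closure {g | ∃ i t, g = x i t} := by rw [hgen]; exact Subgroup.mem_top h
      induction hh using Subgroup.closure_induction with
      | mem y hy =>
        obtain ⟨i, t, rfl⟩ := hy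
        exact fun f hf => hinv f hf i t
      | one => intro f hf; simpa using hf
      | mul y z _ _ hy hz =>
        intro f hf
        have h2 := hy _ (hz f hf)
        have e : (fun g => f (g * (y * z))) = fun g => (fun g => f (g * z)) (g * y) := by
          funext g
          simp only [mul_assoc]
        rw [e]
        exact h2
      | inv y _ hy =>
        intro f hf
        -- a finite group: `y⁻¹ = y ^ m`
        have h2 : ∀ m : ℕ, (fun g => f (g * y ^ m)) ∈ U := by
          intro m
          induction m with
          | zero => simpa using hf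
          | succ m ihm =>
            have h3 := hy _ ihm
            have e : (fun g => f (g * y ^ (m + 1))) = fun g => (fun g => f (g * y ^ m)) (g * y) := by
              funext g
              simp only [pow_succ', mul_assoc]
            rw [e]
            exact h3
        have h4 : y⁻¹ = y ^ (orderOf y - 1) := by
          rw [inv_eq_iff_mul_eq_one, ← pow_succ', Nat.sub_add_cancel (orderOf_pos y), pow_orderOf_eq_one]
        rw [h4]
        exact h2 _
    have h2 : Zer U = ∅ := by
      rw [Set.eq_empty_iff_forall_notMem]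
      intro g hg
      apply hU0
      rw [eq_bot_iff]
      intro f hf
      rw [Submodule.mem_bot]
      funext y
      have h3 := hg _ (h1 (g⁻¹ * y) f hf)
      have h4 : f (g * (g⁻¹ * y)) = 0 := h3
      rw [mul_inv_cancel_left] at h4
      exact h4
    rw [h2, Set.ncard_empty, mul_zero]
    exact Nat.zero_le _
  · push Not at hinv
    obtain ⟨f, hf, i, t₀, hfi⟩ := hinv
    let U' : Submodule K (G → K) := U ⊔ Submodule.span K (Set.range fun t : F => fun g => f (g * x i t))
    have hU'P : U' ≤ P := sup_le hUP (Submodule.span_le.2 (by rintro _ ⟨t, rfl⟩; exact hP f (hUP hf) i t))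
    have hck : ∀ t, (fun g => f (g * x i t)) ∈ U' := fun t =>
      Submodule.mem_sup_right (Submodule.subset_span ⟨t, rfl⟩)
    have hlt : U < U' := lt_of_le_of_ne le_sup_left fun h => hfi (by rw [h]; exact hck t₀)
    have := Fintype.ofFinite G
    have hfin1 : Module.finrank K U < Module.finrank K U' := Submodule.finrank_lt_finrank_of_lt hlt
    have hfin2 : Module.finrank K U' ≤ Module.finrank K P := Submodule.finrank_mono hU'P
    have hU'0 : U' ≠ ⊥ := fun h => hU0 (le_bot_iff.1 (h ▸ le_sup_left))
    have h1 := ih (Module.finrank K P - Module.finrank K U') (by omega) U' hU'P hU'0 rfl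
    -- the difference
    have h2 : Nat.card F * (Zer U \ Zer U').ncard ≤ D * Nat.card G := by
      refine card_bad F (hx i) (fun g => hpoly f (hUP hf) g i) fun g hg => ⟨hg.1 f hf, ?_⟩
      by_contra hcon
      push Not at hcon
      apply hg.2
      intro f' hf'
      have h3 : U' ≤ LinearMap.ker (LinearMap.proj g : (G → K) →ₗ[K] K) := by
        refine sup_le (fun f'' h4 => ?_) (Submodule.span_le.2 ?_)
        · exact hg.1 f'' h4
        · rintro _ ⟨t, rfl⟩
          exact hcon t
      exact h3 hf'
    have h3 : (Zer U).ncard ≤ (Zer U \ Zer U').ncard + (Zer U').ncard := by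
      refine (Set.ncard_le_ncard (t := (Zer U \ Zer U') ∪ Zer U') (fun g hg => ?_) (Set.toFinite _)).trans
        (Set.ncard_union_le _ _)
      by_cases h4 : g ∈ Zer U'
      · exact Or.inr h4
      · exact Or.inl ⟨hg, h4⟩
    calc Nat.card F * (Zer U).ncard
        ≤ Nat.card F * ((Zer U \ Zer U').ncard + (Zer U').ncard) := Nat.mul_le_mul_left _ h3
      _ = Nat.card F * (Zer U \ Zer U').ncard + Nat.card F * (Zer U').ncard := mul_add _ _ _
      _ ≤ D * Nat.card G + (Module.finrank K P - Module.finrank K U') * (D * Nat.card G) := add_le_add h2 h1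
      _ = (1 + (Module.finrank K P - Module.finrank K U')) * (D * Nat.card G) := by ring
      _ ≤ n * (D * Nat.card G) := Nat.mul_le_mul_right _ (by omega)

/-- **Schwartz-Zippel.** -/
theorem sz {x : ι → F → G} (hx : ∀ i s t, x i (s + t) = x i s * x i t)
    (hgen : Subgroup.closure {g | ∃ i t, g = x i t} = ⊤) {P : Submodule K (G → K)}
    (hP : ∀ f ∈ P, ∀ i t, (fun g => f (g * x i t)) ∈ P) {D : ℕ}
    (hpoly : ∀ f ∈ P, ∀ g i, ∃ p : Polynomial K, p.natDegree ≤ D ∧ ∀ t : F, f (g * x i t) = p.eval (t : K))
    {f : G → K} (hf : f ∈ P) (hf0 : ∃ g, f g ≠ 0) :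
    Nat.card F * Nat.card {g : G // f g = 0} ≤ D * Module.finrank K P * Nat.card G := by
  have h1 := sz_aux F hx hgen hP hpoly _ (Submodule.span K {f}) (Submodule.span_le.2 (by simpa using hf))
    (by
      rw [Ne, Submodule.span_singleton_eq_bot]
      rintro rfl
      obtain ⟨g, hg⟩ := hf0
      exact hg rfl) rfl
  have h2 : Zer (Submodule.span K {f}) = {g | f g = 0} := by
    ext g
    constructor
    · intro h
      exact h f (Submodule.mem_span_singleton_self f)
    · intro h f' hf'
      obtain ⟨a, rfl⟩ := Submodule.mem_span_singleton.1 hf'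
      have h' : f g = 0 := h
      rw [Pi.smul_apply, h', smul_zero]
  rw [h2] at h1
  have h3 : {g | f g = 0}.ncard = Nat.card {g : G // f g = 0} := rfl
  rw [h3] at h1
  refine h1.trans ?_
  calc (Module.finrank K P - Module.finrank K (Submodule.span K {f})) * (D * Nat.card G)
      ≤ Module.finrank K P * (D * Nat.card G) := Nat.mul_le_mul_right _ (Nat.sub_le _ _)
    _ = D * Module.finrank K P * Nat.card G := by ring

end Sz

end Cfsg.Agent.H110.BR
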